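import Groth.Prelude.Def_W4c2conddiscmodels
import Mathlib.Data.Rat.Lemmas
import Mathlib.Algebra.BigOperators.Field
import Mathlib.Algebra.BigOperators.Intervals
import Mathlib.Tactic.LinearCombination
import Mathlib.Tactic.FieldSimp
import Mathlib.Tactic.Linarith
import Mathlib.RingTheory.Coprime.Lemmas
import Mathlib.Data.Int.GCD
import Mathlib.Data.Int.Basic

/-! Hirzebruch–Jung continued fractions and their continuant sequences. -/

namespace GrothLib.HJ

/-- The backward continuants: `u (l + 1) = 0`, `u l = 1`, `u (i - 1) = b i * u i - u (i + 1)`;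
here indexed by the distance from the end. -/
def cont (l : ℕ) (b : ℕ → ℤ) : ℕ → ℤ
  | 0 => 0
  | 1 => 1
  | j + 2 => b (l - j) * cont l b (j + 1) - cont l b j

theorem cont_lt (l : ℕ) (b : ℕ → ℤ) (hb : ∀ i, 1 ≤ i → i ≤ l → 2 ≤ b i) :
    ∀ j, j ≤ l → 0 ≤ cont l b j ∧ cont l b j < cont l b (j + 1) := by
  intro j
  induction j with
  | zero => intro _; simp [cont]
  | succ j ih =>
    intro hj
    obtain ⟨h0, h1⟩ := ih (by omega)
    have h2 := hb (l - j) (by omega) (by omega)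
    refine ⟨by omega, ?_⟩
    show _ < b (l - j) * cont l b (j + 1) - cont l b j
    nlinarith

theorem cont_isCoprime (l : ℕ) (b : ℕ → ℤ) : ∀ j, IsCoprime (cont l b (j + 1)) (cont l b j) := by
  intro j
  induction j with
  | zero => exact isCoprime_one_left
  | succ j ih =>
    show IsCoprime (b (l - j) * cont l b (j + 1) - cont l b j) (cont l b (j + 1))
    rw [sub_eq_add_neg, add_comm, mul_comm]
    exact (ih.symm.neg_left).add_mul_left_left _

theorem hjVal_eq (l : ℕ) (b : ℕ → ℤ) (hb : ∀ i, 1 ≤ i → i ≤ l → 2 ≤ b i) :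
    ∀ j, j ≤ l → HJFrac.hjVal ((List.range j).map fun i => b (l - j + i + 1)) =
      (cont l b (j + 1) : ℚ) / (cont l b j : ℚ) := by
  intro j
  induction j with
  | zero => intro _; simp [cont, HJFrac.hjVal]
  | succ j ih =>
    intro hj
    have hpos : (0 : ℤ) < cont l b (j + 1) := by
      have := cont_lt l b hb j (by omega)
      omega
    rw [List.range_succ_eq_map, List.map_cons, HJFrac.hjVal, List.map_map]
    have : (List.range j).map ((fun i => b (l - (j + 1) + i + 1)) ∘ Nat.succ) =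
        (List.range j).map fun i => b (l - j + i + 1) :=
      List.map_congr_left fun i _ => congrArg b (by omega)
    rw [this, ih (by omega), show l - (j + 1) + 0 + 1 = l - j by omega, inv_div]
    have hne : (cont l b (j + 1) : ℚ) ≠ 0 := by exact_mod_cast hpos.ne'
    show _ = ((b (l - j) * cont l b (j + 1) - cont l b j : ℤ) : ℚ) / _
    push_cast
    field_simp

theorem cont_top (l : ℕ) (hl : 1 ≤ l) (b : ℕ → ℤ) (hb : ∀ i, 1 ≤ i → i ≤ l → 2 ≤ b i)
    (n r : ℕ) (hr : 0 < r) (hcop : Nat.Coprime r n)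
    (hhj : (n : ℚ) / r = HJFrac.hjVal ((List.range l).map fun i => b (i + 1))) :
    cont l b (l + 1) = n := by
  have h := hjVal_eq l b hb l le_rfl
  simp only [Nat.sub_self, Nat.zero_add] at h
  rw [← hhj] at h
  have hpos : (0 : ℤ) < cont l b l := by
    have := cont_lt l b hb (l - 1) (by omega)
    rw [Nat.sub_add_cancel hl] at this
    omega
  have hc1 := cont_isCoprime l b l
  have hnn : (0 : ℤ) ≤ cont l b (l + 1) := by
    have := cont_lt l b hb l le_rfl
    omega
  have hmul : (n : ℤ) * cont l b l = cont l b (l + 1) * r := by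
    rw [div_eq_div_iff (Nat.cast_ne_zero.2 hr.ne') (by exact_mod_cast hpos.ne')] at h
    exact_mod_cast h
  have hd1 : cont l b (l + 1) ∣ (n : ℤ) := hc1.dvd_of_dvd_mul_right ⟨r, hmul⟩
  have hd2 : (n : ℤ) ∣ cont l b (l + 1) :=
    ((Nat.isCoprime_iff_coprime.2 hcop).symm).dvd_of_dvd_mul_right ⟨cont l b l, hmul.symm⟩
  exact Int.dvd_antisymm hnn (Int.natCast_nonneg n) hd1 hd2

variable (l : ℕ) (b : ℕ → ℤ) (μ : ℕ → ℤ)
  (hsys : ∀ i, 1 ≤ i → i ≤ l → b i * μ i = μ (i - 1) + μ (i + 1))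
include hsys

theorem wronskian : ∀ j, j ≤ l →
    cont l b (j + 1) * μ (l + 1 - j) - cont l b j * μ (l - j) = μ (l + 1) := by
  intro j
  induction j with
  | zero => intro _; simp [cont]
  | succ j ih =>
    intro hj
    have h := ih (by omega)
    have hs := hsys (l - j) (by omega) (by omega)
    rw [show l - j - 1 = l - (j + 1) by omega, show l - j + 1 = l + 1 - j by omega] at hs
    show (b (l - j) * cont l b (j + 1) - cont l b j) * μ (l + 1 - (j + 1)) - _ = _
    rw [show l + 1 - (j + 1) = l - j by omega]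
    linear_combination (cont l b (j + 1)) * hs + h

omit hsys in
theorem gcd_dvd (hl : 1 ≤ l) (hb : ∀ i, 1 ≤ i → i ≤ l → 2 ≤ b i) (n r : ℕ) (hr : 0 < r)
    (hcop : Nat.Coprime r n) (hhj : (n : ℚ) / r = HJFrac.hjVal ((List.range l).map fun i => b (i + 1)))
    (m₁ m₂ : ℕ) (hm₂ : 0 < m₂) (h₂ : Nat.Coprime m₂ n) (μ : ℕ → ℤ) (hμ0 : μ 0 = m₂) (hμl : μ (l + 1) = m₁)
    (hsys : ∀ i, 1 ≤ i → i ≤ l → b i * μ i = μ (i - 1) + μ (i + 1)) :
    ∀ i, i ≤ l + 1 → ((Nat.gcd m₁ m₂ : ℕ) : ℤ) ∣ μ i := by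
  set g : ℤ := ((Nat.gcd m₁ m₂ : ℕ) : ℤ)
  have hg1 : g ∣ μ (l + 1) := by rw [hμl]; exact Int.natCast_dvd_natCast.2 (Nat.gcd_dvd_left _ _)
  have hg2 : g ∣ μ 0 := by rw [hμ0]; exact Int.natCast_dvd_natCast.2 (Nat.gcd_dvd_right _ _)
  have hgn : IsCoprime g (n : ℤ) :=
    Nat.isCoprime_iff_coprime.2 (Nat.Coprime.coprime_dvd_left (Nat.gcd_dvd_right _ _) h₂)
  have key : ∀ j, j ≤ l → g ∣ μ (l - j) - cont l b (j + 1) * μ l ∧ g ∣ μ (l + 1 - j) - cont l b j * μ l := by
    intro j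
    induction j with
    | zero => intro _; simpa [cont] using hg1
    | succ j ih =>
      intro hj
      obtain ⟨h1, h2⟩ := ih (by omega)
      have hs := hsys (l - j) (by omega) (by omega)
      rw [show l - j - 1 = l - (j + 1) by omega, show l - j + 1 = l + 1 - j by omega] at hs
      refine ⟨?_, by rwa [show l + 1 - (j + 1) = l - j by omega]⟩
      have := (h1.mul_left (b (l - j))).sub h2
      show g ∣ μ (l - (j + 1)) - (b (l - j) * cont l b (j + 1) - cont l b j) * μ l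
      rw [show μ (l - (j + 1)) - (b (l - j) * cont l b (j + 1) - cont l b j) * μ l =
        b (l - j) * (μ (l - j) - cont l b (j + 1) * μ l) - (μ (l + 1 - j) - cont l b j * μ l) by
          linear_combination -hs]
      exact this
  have hμ : g ∣ μ l := by
    have h := (key l le_rfl).1
    rw [Nat.sub_self, cont_top l hl b hb n r hr hcop hhj] at h
    exact hgn.dvd_of_dvd_mul_left ((dvd_sub_right hg2).1 h)
  intro i hi
  rcases eq_or_lt_of_le hi with rfl | hi'
  · exact hg1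
  · have h := (key (l - i) (by omega)).1
    rw [show l - (l - i) = i by omega] at h
    exact (dvd_sub_left (hμ.mul_left _)).1 h

omit hsys in
theorem sum_inv_mul (hl : 1 ≤ l) (hb : ∀ i, 1 ≤ i → i ≤ l → 2 ≤ b i) (n r : ℕ) (hr : 0 < r)
    (hcop : Nat.Coprime r n) (hhj : (n : ℚ) / r = HJFrac.hjVal ((List.range l).map fun i => b (i + 1)))
    (m₁ m₂ : ℕ) (hm₁ : 0 < m₁) (μ : ℕ → ℤ) (hμ0 : μ 0 = m₂) (hμl : μ (l + 1) = m₁)
    (hμpos : ∀ i, i ≤ l + 1 → 0 < μ i)
    (hsys : ∀ i, 1 ≤ i → i ≤ l → b i * μ i = μ (i - 1) + μ (i + 1)) :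
    (n : ℚ) / ((m₁ : ℚ) * m₂) = ∑ i ∈ Finset.range (l + 1), 1 / ((μ i : ℚ) * (μ (i + 1) : ℚ)) := by
  let F : ℕ → ℚ := fun i => (cont l b (l + 1 - i) : ℚ) / (μ i : ℚ)
  have hstep : ∀ i ∈ Finset.range (l + 1), 1 / ((μ i : ℚ) * (μ (i + 1) : ℚ)) = (F i - F (i + 1)) / (m₁ : ℚ) := by
    intro i hi
    rw [Finset.mem_range] at hi
    have hw := wronskian l b μ hsys (l - i) (by omega)
    rw [show l + 1 - (l - i) = i + 1 by omega, show l - (l - i) = i by omega, hμl,
      show l - i + 1 = l + 1 - i by omega] at hw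
    have h1 : (μ i : ℚ) ≠ 0 := by exact_mod_cast (hμpos i (by omega)).ne'
    have h2 : (μ (i + 1) : ℚ) ≠ 0 := by exact_mod_cast (hμpos (i + 1) (by omega)).ne'
    have h3 : (m₁ : ℚ) ≠ 0 := Nat.cast_ne_zero.2 hm₁.ne'
    have hw' := congrArg (fun z : ℤ => (z : ℚ)) hw
    push_cast at hw'
    simp only [F, show l + 1 - (i + 1) = l - i by omega]
    field_simp
    linear_combination -hw'
  rw [Finset.sum_congr rfl hstep, ← Finset.sum_div, Finset.sum_range_sub']
  simp only [F, Nat.sub_self, Nat.sub_zero, cont_top l hl b hb n r hr hcop hhj, hμ0]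
  simp [cont]
  field_simp

end GrothLib.HJ
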